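import Groth.Agent.TransLib.EssFree
import Groth.Agent.MorLib.ProjLocal
import Groth.Agent.EtFound.Descent
import Groth.Agent.FpqcDescLib.Closed
import Groth.Prelude.Def_SGA3x
import Mathlib.AlgebraicGeometry.Morphisms.Affine

/-!
# Groups of multiplicative type are essentially free
-/

universe u

open CategoryTheory CategoryTheory.Limits AlgebraicGeometry

set_option backward.isDefEq.respectTransparency false

namespace Groth.Agent.TransLib

/-- An open and closed immersion of affines gives a projective module. -/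
theorem projective_of_clopen_immersion {T T' : Scheme.{u}} [IsAffine T] [IsAffine T'] (i : T ⟶ T')
    [IsOpenImmersion i] [IsClosedImmersion i] :
    @Module.Projective Γ(T', ⊤) _ Γ(T, ⊤) _ i.appTop.hom.toAlgebra.toModule := by
  letI := i.appTop.hom.toAlgebra
  have hs : Function.Surjective i.appTop.hom := ((HasAffineProperty.iff_of_isAffine (P := @IsClosedImmersion)).mp
    (inferInstance : IsClosedImmersion i)).2
  haveI : Module.Finite Γ(T', ⊤) Γ(T, ⊤) := Module.Finite.of_surjective (Algebra.linearMap _ _) hs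
  haveI : Module.Flat Γ(T', ⊤) Γ(T, ⊤) := i.flat_appTop
  haveI : Algebra.FinitePresentation Γ(T', ⊤) Γ(T, ⊤) :=
    HasRingHomProperty.appTop (P := @LocallyOfFinitePresentation) i inferInstance
  haveI : Module.FinitePresentation Γ(T', ⊤) Γ(T, ⊤) :=
    Module.FinitePresentation.of_finite_of_finitePresentation _ _
  exact Module.Flat.projective_of_finitePresentation

/-- A finite flat family of affines with projective charts gives essential freeness. -/
theorem essFree_of_family {X S : Scheme.{u}} (f : X ⟶ S)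
    (h : ∀ s : S, ∃ U : S.Opens, s ∈ U ∧ IsAffineOpen U ∧
      ∃ (κ : Type u) (_ : Finite κ) (T : κ → Scheme.{u}) (_ : ∀ j, IsAffine (T j))
        (q : ∀ j, T j ⟶ (U : Scheme.{u})), (∀ j, Flat (q j)) ∧ (∀ z, ∃ j y, q j y = z) ∧
        ∀ (j : κ) (x : ↥(pullback f (q j ≫ U.ι))), ∃ V : (pullback f (q j ≫ U.ι)).Opens, x ∈ V ∧ IsAffineOpen V ∧
          (letI := (V.ι ≫ pullback.snd f (q j ≫ U.ι)).appTop.hom.toAlgebra
           Module.Projective Γ(T j, ⊤) Γ(↑V, ⊤))) :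
    SGA3x.IsEssentiallyFree f := by
  classical
  intro s
  obtain ⟨U, hsU, hU, κ, _, T, _, q, hqf, hqs, hV⟩ := h s
  let R : κ → CommRingCat.{u} := fun j => Γ(T j, ⊤)
  let S'' : Scheme.{u} := Spec (CommRingCat.of (∀ j, R j))
  let g : S'' ⟶ (U : Scheme.{u}) := inv (sigmaSpec R) ≫ Sigma.desc fun j => (T j).isoSpec.inv ≫ q j
  let c : ∀ j, T j ⟶ S'' := fun j =>
    (T j).isoSpec.hom ≫ Spec.map (CommRingCat.ofHom (Pi.evalRingHom (fun j => (R j : Type u)) j))
  have hc : ∀ j, c j ≫ g = q j := fun j => by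
    show ((T j).isoSpec.hom ≫ _) ≫ inv (sigmaSpec R) ≫ _ = _
    rw [Category.assoc]
    erw [← ι_sigmaSpec_assoc R j, IsIso.hom_inv_id_assoc, Sigma.ι_desc]
    rw [Iso.hom_inv_id_assoc]
  have hco : ∀ j, IsOpenImmersion (c j) := fun j => by
    haveI : IsOpenImmersion (Spec.map (CommRingCat.ofHom (Pi.evalRingHom (fun j => (R j : Type u)) j))) := by
      erw [← ι_sigmaSpec R j]
      infer_instance
    exact inferInstanceAs (IsOpenImmersion (_ ≫ _))
  have hcc : ∀ j, IsClosedImmersion (c j) := fun j => by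
    haveI : IsClosedImmersion (Spec.map (CommRingCat.ofHom (Pi.evalRingHom (fun j => (R j : Type u)) j))) :=
      IsClosedImmersion.spec_of_surjective _ (Function.surjective_eval (α := κ) (β := fun j => (R j : Type u)) j)
    exact inferInstanceAs (IsClosedImmersion (_ ≫ _))
  have hcov : ∀ z : S'', ∃ j y, c j y = z := fun z => by
    obtain ⟨w, rfl⟩ := (sigmaSpec R).surjective z
    obtain ⟨j, y, rfl⟩ := (sigmaOpenCover fun j => Spec (R j)).exists_eq w
    refine ⟨j, (T j).isoSpec.inv y, ?_⟩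
    show ((T j).isoSpec.inv ≫ (T j).isoSpec.hom ≫ Spec.map _) y = _
    rw [Iso.inv_hom_id_assoc, ← Scheme.Hom.comp_apply]
    exact congrArg (fun m : Spec (R j) ⟶ S'' => m y) (ι_sigmaSpec R j).symm
  haveI : Flat g := by
    rw [IsZariskiLocalAtSource.iff_of_openCover (P := @Flat)
      (Scheme.Cover.mkOfCovers κ T c hcov hco : S''.OpenCover)]
    intro j
    show Flat (c j ≫ g)
    rw [hc j]
    exact hqf j
  haveI : Surjective g := ⟨fun z => by
    obtain ⟨j, y, rfl⟩ := hqs z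
    exact ⟨c j y, by rw [← Scheme.Hom.comp_apply, hc]⟩⟩
  refine ⟨U, hsU, hU, S'', inferInstance, g, inferInstance, inferInstance, fun x => ?_⟩
  obtain ⟨j, y, hy⟩ := hcov (pullback.snd f (g ≫ U.ι) x)
  let m : pullback f (q j ≫ U.ι) ⟶ pullback f (g ≫ U.ι) :=
    pullback.map _ _ _ _ (𝟙 X) (c j) (𝟙 S) (by simp) (by simp [reassoc_of% hc j])
  have hm : IsPullback m (pullback.snd f (q j ≫ U.ι)) (pullback.snd f (g ≫ U.ι)) (c j) := by
    refine IsPullback.of_right (h₁₂ := pullback.fst f (g ≫ U.ι)) (h₂₂ := g ≫ U.ι) (v₁₃ := f) ?_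
      (pullback.lift_snd _ _ _) (IsPullback.of_hasPullback f (g ≫ U.ι))
    simpa [m, pullback.map, reassoc_of% hc j] using IsPullback.of_hasPullback f (q j ≫ U.ι)
  haveI : IsOpenImmersion m := MorphismProperty.of_isPullback (P := @IsOpenImmersion) hm.flip (hco j)
  obtain ⟨x', hx'⟩ : x ∈ Set.range m := by
    obtain ⟨t, ht⟩ : x ∈ Set.range (pullback.fst (pullback.snd f (g ≫ U.ι)) (c j)) := by
      rw [Scheme.Pullback.range_fst]; exact ⟨y, hy⟩
    exact ⟨hm.isoPullback.inv t, by rw [← Scheme.Hom.comp_apply, IsPullback.isoPullback_inv_fst, ht]⟩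
  obtain ⟨V, hxV, hVa, hproj⟩ := hV j x'
  haveI : IsAffine (V : Scheme.{u}) := hVa
  let W : (pullback f (g ≫ U.ι)).Opens := m ''ᵁ V
  have hWa : IsAffineOpen W := hVa.image_of_isOpenImmersion m
  haveI : IsAffine (W : Scheme.{u}) := hWa
  refine ⟨W, ⟨x', hxV, hx'⟩, hWa, ?_⟩
  let e : (V : Scheme.{u}) ≅ (W : Scheme.{u}) := m.isoImage V
  letI := (V.ι ≫ pullback.snd f (q j ≫ U.ι)).appTop.hom.toAlgebra
  letI := (c j).appTop.hom.toAlgebra
  letI := (W.ι ≫ pullback.snd f (g ≫ U.ι)).appTop.hom.toAlgebra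
  letI : Algebra Γ(S'', ⊤) Γ((V : Scheme.{u}), ⊤) :=
    ((V.ι ≫ pullback.snd f (q j ≫ U.ι)).appTop.hom.comp (c j).appTop.hom).toAlgebra
  haveI : IsScalarTower Γ(S'', ⊤) Γ(T j, ⊤) Γ((V : Scheme.{u}), ⊤) := IsScalarTower.of_algebraMap_eq' rfl
  haveI := hproj
  haveI := hcc j
  haveI := hco j
  haveI : Module.Projective Γ(S'', ⊤) Γ(T j, ⊤) := projective_of_clopen_immersion (c j)
  haveI : Module.Projective Γ(S'', ⊤) Γ((V : Scheme.{u}), ⊤) := MorLib.projective_trans _ Γ(T j, ⊤) _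
  have hcomm : e.hom ≫ W.ι ≫ pullback.snd f (g ≫ U.ι) = (V.ι ≫ pullback.snd f (q j ≫ U.ι)) ≫ c j := by
    refine ((Category.assoc _ _ _).symm.trans (congrArg (· ≫ pullback.snd f (g ≫ U.ι)) (m.isoImage_hom_ι V))).trans ?_
    exact (Category.assoc _ _ _).trans ((congrArg (V.ι ≫ ·) hm.w).trans (Category.assoc _ _ _).symm)
  haveI : IsIso e.hom.appTop := inferInstance
  let eA : Γ((W : Scheme.{u}), ⊤) ≃ₐ[Γ(S'', ⊤)] Γ((V : Scheme.{u}), ⊤) :=
    AlgEquiv.ofRingEquiv (f := (asIso e.hom.appTop).commRingCatIsoToRingEquiv) fun z =>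
      congrArg (fun m => m.appTop.hom z) hcomm
  exact Module.Projective.of_equiv eA.toLinearEquiv.symm

/-- A diagonalisable group has a free coordinate ring over an affine base. -/
theorem exists_chart_DS {T : Scheme.{u}} [IsAffine T] (M : Type) [AddCommGroup M] :
    IsAffine (Red.DS T M).left ∧
      @Module.Projective Γ(T, ⊤) _ Γ((Red.DS T M).left, ⊤) _ (Red.DS T M).hom.appTop.hom.toAlgebra.toModule := by
  let a := (Red.diag (ULift.{u} ℤ) M).hom
  let b := Limits.IsTerminal.from specULiftZIsTerminal T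
  haveI : IsAffine (Red.diag (ULift.{u} ℤ) M).left := inferInstanceAs (IsAffine (Spec _))
  have H : IsPullback (pullback.fst a b) (pullback.snd a b) a b := IsPullback.of_hasPullback a b
  haveI : IsAffine (Red.DS T M).left := inferInstanceAs (IsAffine (pullback a b))
  refine ⟨inferInstance, ?_⟩
  letI := a.appTop.hom.toAlgebra
  letI := b.appTop.hom.toAlgebra
  letI := (pullback.snd a b).appTop.hom.toAlgebra
  letI := (pullback.fst a b).appTop.hom.toAlgebra
  letI : Algebra Γ(Spec (CommRingCat.of (ULift.{u} ℤ)), ⊤) Γ(pullback a b, ⊤) :=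
    ((pullback.snd a b).appTop.hom.comp b.appTop.hom).toAlgebra
  haveI : IsScalarTower Γ(Spec (CommRingCat.of (ULift.{u} ℤ)), ⊤) Γ(T, ⊤) Γ(pullback a b, ⊤) :=
    IsScalarTower.of_algebraMap_eq' rfl
  haveI : IsScalarTower Γ(Spec (CommRingCat.of (ULift.{u} ℤ)), ⊤) Γ((Red.diag (ULift.{u} ℤ) M).left, ⊤)
      Γ(pullback a b, ⊤) :=
    IsScalarTower.of_algebraMap_eq' (congrArg CommRingCat.Hom.hom (isPushout_appTop_of_isPullback H).w).symm
  have hAlg : Algebra.IsPushout Γ(Spec (CommRingCat.of (ULift.{u} ℤ)), ⊤) Γ(T, ⊤)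
      Γ((Red.diag (ULift.{u} ℤ) M).left, ⊤) Γ(pullback a b, ⊤) :=
    CommRingCat.isPushout_iff_isPushout.mp (isPushout_appTop_of_isPullback H).flip
  haveI : Module.Projective Γ(Spec (CommRingCat.of (ULift.{u} ℤ)), ⊤) Γ((Red.diag (ULift.{u} ℤ) M).left, ⊤) := by
    let σ := (Scheme.ΓSpecIso (CommRingCat.of (ULift.{u} ℤ))).symm.commRingCatIsoToRingEquiv
    let τ : MonoidAlgebra (ULift.{u} ℤ) (Multiplicative M) ≃+* Γ((Red.diag (ULift.{u} ℤ) M).left, ⊤) := (Scheme.ΓSpecIso (CommRingCat.of (MonoidAlgebra (ULift.{u} ℤ) (Multiplicative M)))).symm.commRingCatIsoToRingEquiv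
    let A₀ := MonoidAlgebra (ULift.{u} ℤ) (Multiplicative M)
    haveI : RingHomInvPair (σ : ULift.{u} ℤ →+* Γ(Spec (CommRingCat.of (ULift.{u} ℤ)), ⊤)) σ.symm :=
      RingHomInvPair.of_ringEquiv σ
    haveI : RingHomInvPair (σ.symm : Γ(Spec (CommRingCat.of (ULift.{u} ℤ)), ⊤) →+* ULift.{u} ℤ) σ :=
      RingHomInvPair.of_ringEquiv σ.symm
    have hτ : ∀ r : ULift.{u} ℤ, τ (algebraMap (ULift.{u} ℤ) A₀ r) = a.appTop.hom (σ r) := fun r =>
      congrArg (fun m => m.hom r) (Scheme.ΓSpecIso_inv_naturality (CommRingCat.ofHom (algebraMap (ULift.{u} ℤ) A₀)))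
    let el : A₀ ≃ₛₗ[(σ : ULift.{u} ℤ →+* Γ(Spec (CommRingCat.of (ULift.{u} ℤ)), ⊤))] Γ((Red.diag (ULift.{u} ℤ) M).left, ⊤) :=
      { τ.toAddEquiv with
        map_smul' := fun r x => by
          refine (?_ : (τ (r • x) : Γ((Red.diag (ULift.{u} ℤ) M).left, ⊤)) = a.appTop.hom (σ r) * (τ x : Γ((Red.diag (ULift.{u} ℤ) M).left, ⊤)))
          rw [Algebra.smul_def, map_mul, hτ] }
    exact Module.Projective.of_equiv el
  exact (Module.Projective.of_equiv hAlg.out.equiv : Module.Projective Γ(T, ⊤) Γ(pullback a b, ⊤))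

/-- A group of multiplicative type is essentially free and affine over the base. -/
theorem multTypeFT_essFree {S : Scheme.{u}} {H : Over S} [GrpObj H] (hH : SGA3x.IsMultTypeFT H) :
    IsAffineHom H.hom ∧ SGA3x.IsEssentiallyFree H.hom := by
  classical
  obtain ⟨S', f, hflat, hsurj, hqc, hloc⟩ := hH
  choose O hO M hM _ hiso using hloc
  have hbc : ∀ (s' : S') {T : Scheme.{u}} [IsAffine T] (t : T ⟶ (O s' : Scheme.{u})),
      ∃ e : pullback H.hom (t ≫ (O s').ι ≫ f) ≅ (Red.DS T (M s')).left,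
        e.hom ≫ (Red.DS T (M s')).hom = pullback.snd H.hom (t ≫ (O s').ι ≫ f) := by
    intro s' T _ t
    obtain ⟨i⟩ := hiso s'
    let j : Red.bc ((O s').ι ≫ f) H ≅ Red.DS (O s' : Scheme.{u}) (M s') :=
      ⟨i.hom.hom.hom, i.inv.hom.hom, congrArg (fun h => h.hom.hom) i.hom_inv_id,
        congrArg (fun h => h.hom.hom) i.inv_hom_id⟩
    have h0 : Limits.IsTerminal.from specULiftZIsTerminal T = t ≫ Limits.IsTerminal.from specULiftZIsTerminal _ :=
      specULiftZIsTerminal.hom_ext _ _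
    let k : Red.bc (t ≫ (O s').ι ≫ f) H ≅ Red.DS T (M s') :=
      (Over.pullbackComp t ((O s').ι ≫ f)).app H ≪≫ (Over.pullback t).mapIso j ≪≫
        ((Over.pullbackComp t (Limits.IsTerminal.from specULiftZIsTerminal (O s' : Scheme.{u}))).app
          (Red.diag (ULift.{u} ℤ) (M s'))).symm ≪≫
        (eqToIso (congrArg (fun z => Red.bc z (Red.diag (ULift.{u} ℤ) (M s'))) h0)).symm
    exact ⟨(Over.forget _).mapIso k, Over.w k.hom⟩
  -- finite families over affine opens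
  have hfam : ∀ U : S.Opens, IsAffineOpen U → ∃ (κ : Type u) (_ : Finite κ) (T : κ → Scheme.{u})
      (_ : ∀ j, IsAffine (T j)) (q : ∀ j, T j ⟶ (U : Scheme.{u})), (∀ j, Flat (q j)) ∧ (∀ z, ∃ j y, q j y = z) ∧
      ∀ j, ∃ (s' : S') (t : T j ⟶ (O s' : Scheme.{u})), q j ≫ U.ι = t ≫ (O s').ι ≫ f := by
    intro U hU
    obtain ⟨W, hWc, hWU⟩ := hqc U hU
    have hex : ∀ w : W, ∃ (B : S'.Opens), IsAffineOpen B ∧ (w : S') ∈ B ∧ B ≤ W ∧ B ≤ O w := fun w => by
      obtain ⟨B, hB, hwB, hBle⟩ := exists_isAffineOpen_mem_and_subset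
        (show (w : S') ∈ W ⊓ O w from ⟨w.2, hO w⟩)
      exact ⟨B, hB, hwB, fun z hz => (hBle hz).1, fun z hz => (hBle hz).2⟩
    choose B hBa hwB hBW hBO using hex
    obtain ⟨t, ht⟩ := hWc.elim_finite_subcover (fun w => (B w : Set S')) (fun w => (B w).2)
      fun w hw => Set.mem_iUnion.mpr ⟨⟨w, hw⟩, hwB _⟩
    have hle : ∀ w : t, B w.1 ≤ f ⁻¹ᵁ U := fun w z hz => by
      show f.base z ∈ (U : Set S)
      rw [← hWU]
      exact Set.mem_image_of_mem _ (hBW w.1 hz)
    refine ⟨t, inferInstance, fun w => B w.1, fun w => hBa w.1, fun w => f.resLE U (B w.1) (hle w),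
      fun w => inferInstance, fun z => ?_, fun w => ⟨w.1.1, S'.homOfLE (hBO w.1), ?_⟩⟩
    · obtain ⟨y, hy, hyz⟩ : z.1 ∈ f.base '' (W : Set S') := hWU.symm ▸ z.2
      obtain ⟨w, hw, hyw⟩ := Set.mem_iUnion₂.mp (ht hy)
      refine ⟨⟨w, hw⟩, ⟨y, hyw⟩, Subtype.ext ?_⟩
      rw [← hyz]
      exact congrArg (fun m => m.base (⟨y, hyw⟩ : B w)) (f.resLE_comp_ι (hle ⟨w, hw⟩))
    · rw [Scheme.Hom.resLE_comp_ι, Scheme.homOfLE_ι_assoc]
  haveI := EtFound.fpqc_isAffineHom.{u}
  have haff : IsAffineHom H.hom := by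
    have hcov : FpqcDescLib.Covers f :=
      FpqcDescLib.covers_of_hcov f ⟨S', f, 𝟙 _, Category.id_comp _, hsurj, hflat, hqc⟩
    refine hcov.descends @IsAffineHom H.hom (pullback.snd H.hom f) (pullback.fst H.hom f)
      (IsPullback.of_hasPullback H.hom f).flip ?_
    refine IsZariskiLocalAtTarget.of_forall_exists_morphismRestrict fun s' => ?_
    obtain ⟨B, hB, hsB, hBO⟩ := exists_isAffineOpen_mem_and_subset (hO s')
    refine ⟨B, hsB, ?_⟩
    haveI : IsAffine (B : Scheme.{u}) := hB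
    obtain ⟨e, he⟩ := hbc s' (S'.homOfLE hBO)
    haveI := (exists_chart_DS (T := (B : Scheme.{u})) (M s')).1
    have ht : S'.homOfLE hBO ≫ (O s').ι ≫ f = B.ι ≫ f := Scheme.homOfLE_ι_assoc _ _ _
    have H1 : IsPullback ((pullback.snd H.hom f ⁻¹ᵁ B).ι ≫ pullback.fst H.hom f) (pullback.snd H.hom f ∣_ B) H.hom
        (B.ι ≫ f) :=
      (isPullback_morphismRestrict _ B).flip.paste_horiz (IsPullback.of_hasPullback H.hom f)
    rw [← ht] at H1
    rw [← H1.isoPullback_hom_snd, ← he]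
    infer_instance
  refine ⟨haff, essFree_of_family H.hom fun s => ?_⟩
  obtain ⟨U, hU, hsU, -⟩ := exists_isAffineOpen_mem_and_subset (show s ∈ (⊤ : S.Opens) from trivial)
  obtain ⟨κ, i₁, T, i₂, q, hqf, hqs, hqt⟩ := hfam U hU
  refine ⟨U, hsU, hU, κ, i₁, T, i₂, q, hqf, hqs, fun j x => ?_⟩
  obtain ⟨s', t, ht⟩ := hqt j
  haveI := i₂ j
  obtain ⟨e, he⟩ := hbc s' t
  obtain ⟨hA, hP⟩ := exists_chart_DS (T := T j) (M s')
  let e' : pullback H.hom (q j ≫ U.ι) ≅ (Red.DS (T j) (M s')).left := pullback.congrHom rfl ht ≪≫ e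
  have he' : e'.hom ≫ (Red.DS (T j) (M s')).hom = pullback.snd H.hom (q j ≫ U.ι) := by
    simp only [e', Iso.trans_hom, Category.assoc, he, pullback.congrHom_hom]
    exact (pullback.lift_snd _ _ _).trans (Category.comp_id _)
  let P := pullback H.hom (q j ≫ U.ι)
  haveI : IsAffine P := .of_isIso e'.hom
  refine ⟨⊤, trivial, isAffineOpen_top _, ?_⟩
  haveI : IsAffine ((⊤ : P.Opens) : Scheme.{u}) := isAffineOpen_top P
  letI := ((⊤ : P.Opens).ι ≫ pullback.snd H.hom (q j ≫ U.ι)).appTop.hom.toAlgebra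
  letI := (Red.DS (T j) (M s')).hom.appTop.hom.toAlgebra
  let d : ((⊤ : P.Opens) : Scheme.{u}) ≅ (Red.DS (T j) (M s')).left := P.topIso ≪≫ e'
  let eA : Γ((Red.DS (T j) (M s')).left, ⊤) ≃ₐ[Γ(T j, ⊤)] Γ(((⊤ : P.Opens) : Scheme.{u}), ⊤) :=
    AlgEquiv.ofRingEquiv (f := (asIso d.hom.appTop).commRingCatIsoToRingEquiv) fun z => by
      refine congrArg (fun m => m.appTop.hom z) (?_ : d.hom ≫ (Red.DS (T j) (M s')).hom = _)
      simp only [d, Iso.trans_hom, Category.assoc, he', Scheme.topIso_hom]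
  haveI := hP
  exact Module.Projective.of_equiv eA.toLinearEquiv

end Groth.Agent.TransLib
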