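import Groth.Agent.S4101
import Groth.Agent.S5356
import Groth.Agent.GrpSchLib.Coincidence

/-!
# Universal closed subschemes along essentially free morphisms
-/

universe u

open CategoryTheory CategoryTheory.Limits MonoidalCategory CartesianMonoidalCategory AlgebraicGeometry

namespace Groth.Agent.TransLib

variable {S : Scheme.{u}} {W X Y E : Over S}

/-- The points `x` with `f (W × x) ⊆ E`, for `W` essentially free. -/
theorem exists_closed_universal_essFree (hW : SGA3x.IsEssentiallyFree W.hom)
    (f : W ⊗ X ⟶ Y) (i : E ⟶ Y) [IsClosedImmersion i.left] :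
    ∃ (Z : Over S) (c : Z ⟶ X), IsClosedImmersion c.left ∧
      (QuasiCompact W.hom → LocallyOfFinitePresentation i.left → LocallyOfFinitePresentation c.left) ∧
      ∀ {P : Over S} (x : P ⟶ X), (∃ z : P ⟶ Z, z ≫ c = x) ↔ ∃ l : W ⊗ P ⟶ E, l ≫ i = (W ◁ x) ≫ f := by
  have hsn : SGA3x.IsEssentiallyFree (snd W X).left :=
    Groth.Agent.S5356.result.2.2.2 _ _ _ W.hom X.hom hW
  let e := pullback.fst f.left i.left
  haveI : IsClosedImmersion e := inferInstanceAs (IsClosedImmersion (pullback.fst f.left i.left))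
  obtain ⟨Z, z, hz, hzf, hfp⟩ := Groth.Agent.S4101.result _ _ _ (snd W X).left hsn e
  have hfac : ∀ {T : Over S} (y : T ⟶ W ⊗ X),
      (∃ l : T.left ⟶ pullback f.left i.left, l ≫ e = y.left) ↔ ∃ l : T ⟶ E, l ≫ i = y ≫ f := by
    intro T y
    constructor
    · rintro ⟨l, hl⟩
      refine ⟨Over.homMk (l ≫ pullback.snd f.left i.left) ?_, Over.OverMorphism.ext ?_⟩
      · rw [Category.assoc, ← Over.w i, ← pullback.condition_assoc, ← Category.assoc, hl, Over.w f, Over.w y]
      · show (l ≫ pullback.snd f.left i.left) ≫ i.left = y.left ≫ f.left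
        rw [Category.assoc, ← pullback.condition, ← Category.assoc, hl]
    · rintro ⟨l, hl⟩
      exact ⟨pullback.lift y.left l.left (congrArg CommaMorphism.left hl).symm, pullback.lift_fst _ _ _⟩
  refine ⟨Over.mk (z ≫ X.hom), Over.homMk z rfl, hz, fun hqc hi => ?_, fun {P} x => ?_⟩
  · haveI : QuasiCompact (snd W X).left := inferInstanceAs (QuasiCompact (pullback.snd W.hom X.hom))
    exact hfp inferInstance (MorphismProperty.pullback_fst _ _ hi)
  · let H := GrpSchLib.isPullback_whiskerLeft (W := W) x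
    rw [← hfac]
    refine Iff.trans ⟨fun ⟨w, hw⟩ => ⟨w.left, congrArg CommaMorphism.left hw⟩, fun ⟨w, hw⟩ =>
      ⟨Over.homMk w (by show w ≫ z ≫ X.hom = _; rw [← Category.assoc, hw, Over.w x]), Over.OverMorphism.ext hw⟩⟩
      ((hzf _ x.left).trans ⟨fun h => ?_, fun ⟨l, hl⟩ => ?_⟩)
    · exact ⟨H.isoPullback.hom ≫ inv (pullback.snd e (pullback.fst (snd W X).left x.left)) ≫ pullback.fst e _,
        by rw [Category.assoc, Category.assoc, pullback.condition, IsIso.inv_hom_id_assoc,
          IsPullback.isoPullback_hom_fst]⟩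
    · haveI : IsSplitEpi (pullback.snd e (pullback.fst (snd W X).left x.left)) :=
        IsSplitEpi.mk' ⟨pullback.lift (H.isoPullback.inv ≫ l) (𝟙 _)
          (by rw [Category.assoc, hl, Category.id_comp, IsPullback.isoPullback_inv_fst]), pullback.lift_snd _ _ _⟩
      exact isIso_of_mono_of_isSplitEpi _

end Groth.Agent.TransLib
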