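import Groth.Agent.GrpSchLib.CoincidenceFP
import Groth.Agent.GrpSchLib.CoincidenceBase

/-!
# Universal closed subschemes along a finite flat morphism
-/

universe u

open CategoryTheory CategoryTheory.Limits MonoidalCategory CartesianMonoidalCategory AlgebraicGeometry TensorProduct

set_option backward.isDefEq.respectTransparency false

namespace Groth.Agent.TransLib

variable {S : Scheme.{u}} {W X Y E : Over S}

/-- The points `x` with `f (W × x) ⊆ E`, for `W` finite flat of finite presentation. -/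
theorem exists_closed_universal_finite [IsFinite W.hom] [Flat W.hom] [LocallyOfFinitePresentation W.hom]
    (f : W ⊗ X ⟶ Y) (i : E ⟶ Y) [IsClosedImmersion i.left] :
    ∃ (Z : Over S) (c : Z ⟶ X), IsClosedImmersion c.left ∧
      (LocallyOfFinitePresentation i.left → LocallyOfFinitePresentation c.left) ∧
      ∀ {P : Over S} (x : P ⟶ X), (∃ z : P ⟶ Z, z ≫ c = x) ↔ ∃ l : W ⊗ P ⟶ E, l ≫ i = (W ◁ x) ≫ f := by
  let e := pullback.fst f.left i.left
  have he : IsClosedImmersion e := inferInstanceAs (IsClosedImmersion (pullback.fst f.left i.left))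
  have hfac : ∀ {T : Over S} (y : T ⟶ W ⊗ X),
      (∃ l : T.left ⟶ pullback f.left i.left, l ≫ e = y.left) ↔ ∃ l : T ⟶ E, l ≫ i = y ≫ f := by
    intro T y
    constructor
    · rintro ⟨l, hl⟩
      refine ⟨Over.homMk (l ≫ pullback.snd f.left i.left) ?_, Over.OverMorphism.ext ?_⟩
      · rw [Category.assoc, ← Over.w i, ← pullback.condition_assoc, ← Category.assoc, hl, Over.w f, Over.w y]
      · show (l ≫ pullback.snd f.left i.left) ≫ i.left = y.left ≫ f.left
        rw [Category.assoc, ← pullback.condition, ← Category.assoc, hl]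
    · rintro ⟨l, hl⟩
      exact ⟨pullback.lift y.left l.left (congrArg CommaMorphism.left hl).symm, pullback.lift_fst _ _ _⟩
  obtain ⟨Z, z, hz, hzf⟩ := GrpSchLib.exists_weilRestriction
    (GrpSchLib.hasIdeals_of_finite_flat (W := W) (X := X) e)
  refine ⟨Over.mk (z ≫ X.hom), Over.homMk z rfl, hz, fun hfp => ?_, fun {P} x => ?_⟩
  · haveI : LocallyOfFinitePresentation e := MorphismProperty.pullback_fst _ _ hfp
    show LocallyOfFinitePresentation z
    refine GrpSchLib.locallyOfFinitePresentation_of_hasIdeal hzf fun x => ?_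
    obtain ⟨V, hV, hxV, -⟩ := exists_isAffineOpen_mem_and_subset (show X.hom x ∈ (⊤ : S.Opens) from trivial)
    obtain ⟨U, hU, hxU, hUV⟩ := exists_isAffineOpen_mem_and_subset (show x ∈ X.hom ⁻¹ᵁ V from hxV)
    refine ⟨Γ(X.left, U), inferInstance, hU.fromSpec, inferInstance, hU.range_fromSpec.ge hxU, ?_⟩
    letI : Algebra Γ(S, V) Γ(X.left, U) := (X.hom.appLE V U hUV).hom.toAlgebra
    letI : Algebra Γ(S, V) Γ(W.left, W.hom ⁻¹ᵁ V) := (W.hom.app V).hom.toAlgebra
    haveI : Module.Projective Γ(S, V) Γ(W.left, W.hom ⁻¹ᵁ V) := by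
      have h1 : (W.hom.app V).hom.Flat := by
        rw [Scheme.Hom.app_eq_appLE]
        exact HasRingHomProperty.appLE @Flat W.hom inferInstance ⟨V, hV⟩ ⟨_, hV.preimage W.hom⟩ _
      have h2 : (W.hom.app V).hom.FinitePresentation := by
        rw [Scheme.Hom.app_eq_appLE]
        exact HasRingHomProperty.appLE @LocallyOfFinitePresentation W.hom inferInstance ⟨V, hV⟩
          ⟨_, hV.preimage W.hom⟩ _
      haveI : Module.Finite Γ(S, V) Γ(W.left, W.hom ⁻¹ᵁ V) := W.hom.finite_app V hV
      haveI : Module.Flat Γ(S, V) Γ(W.left, W.hom ⁻¹ᵁ V) := h1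
      haveI : Algebra.FinitePresentation Γ(S, V) Γ(W.left, W.hom ⁻¹ᵁ V) := h2
      haveI : Module.FinitePresentation Γ(S, V) Γ(W.left, W.hom ⁻¹ᵁ V) :=
        Module.FinitePresentation.of_finite_of_finitePresentation _ _
      exact Module.Flat.projective_of_finitePresentation
    obtain ⟨I, hI, hfg⟩ := GrpSchLib.hasIdeal_of_isPullback_content (W := W) (X := X)
      (A := Γ(X.left, U)) (R := Γ(S, V)) (B := Γ(W.left, W.hom ⁻¹ᵁ V)) e
      (fun J => GrpSchLib.exists_contentIdeal_of_projective J) hU.fromSpec hV.fromSpec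
      (by rw [RingHom.algebraMap_toAlgebra, CommRingCat.ofHom_hom, IsAffineOpen.SpecMap_appLE_fromSpec])
      (hV.preimage W.hom).fromSpec
      (by
        refine (IsOpenImmersion.isPullback _ _ _ _ ?_ ?_).flip
        · rw [RingHom.algebraMap_toAlgebra, CommRingCat.ofHom_hom, Scheme.Hom.app_eq_appLE,
            IsAffineOpen.SpecMap_appLE_fromSpec]
        · rw [IsAffineOpen.opensRange_fromSpec, IsAffineOpen.opensRange_fromSpec])
    exact ⟨I, hI, hfg inferInstance⟩
  · rw [← hfac, ← GrpSchLib.good_iff_whiskerLeft e x, ← hzf]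
    refine ⟨fun ⟨w, hw⟩ => ⟨w.left, congrArg CommaMorphism.left hw⟩, fun ⟨w, hw⟩ =>
      ⟨Over.homMk w (by show w ≫ z ≫ X.hom = _; rw [← Category.assoc, hw, Over.w x]), Over.OverMorphism.ext hw⟩⟩

end Groth.Agent.TransLib
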