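import Groth.Agent.GrpSchLib.NormalPoints
import Groth.Agent.GrpSchLib.AntiAffineHom

/-!
# Transporters in a group scheme over a field
-/

universe u

open CategoryTheory CategoryTheory.Limits MonoidalCategory CartesianMonoidalCategory AlgebraicGeometry
open scoped MonObj

namespace Groth.Agent.TransLib

variable {k : Type u} [Field k] {G X Y : Over (Spec (CommRingCat.of k))} [GrpObj G]

/-- The transporter of a morphism into another one is closed. -/
theorem exists_transporter_hom (u v : X ⟶ G) :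
    ∃ (T : Over (Spec (CommRingCat.of k))) (t : T ⟶ G), IsClosedImmersion t.left ∧
      ∀ (S' : Over (Spec (CommRingCat.of k))) (g : S' ⟶ G), (∃ z : S' ⟶ T, z ≫ t = g) ↔
        ∀ (S'' : Over (Spec (CommRingCat.of k))) (s : S'' ⟶ S') (x : S'' ⟶ X),
          (s ≫ g) * (x ≫ u) * (s ≫ g)⁻¹ = x ≫ v := by
  haveI := GrpSchLib.AntiAffine.isSeparated_grp G
  obtain ⟨T, t, ht, hT⟩ := GrpSchLib.exists_coincidence_field (W := X) (X := G)
    (snd X G * (fst X G ≫ u) * (snd X G)⁻¹) (fst X G ≫ v)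
  refine ⟨T, t, ht, fun S' g => (hT S' g).trans ⟨fun h S'' s x => ?_, fun h => ?_⟩⟩
  · have := congrArg (lift x s ≫ ·) h
    simpa [MonObj.comp_mul, GrpObj.comp_inv, lift_whiskerLeft_assoc] using this
  · have := h (X ⊗ S') (snd X S') (fst X S')
    simpa [MonObj.comp_mul, GrpObj.comp_inv] using this

/-- The points conjugating `Y'` into a closed `Y` form a closed subscheme. -/
theorem exists_transporter_sub {Y' : Over (Spec (CommRingCat.of k))} (y : Y ⟶ G) [IsClosedImmersion y.left]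
    (y' : Y' ⟶ G) :
    ∃ (T : Over (Spec (CommRingCat.of k))) (t : T ⟶ G), IsClosedImmersion t.left ∧
      ∀ (S' : Over (Spec (CommRingCat.of k))) (g : S' ⟶ G), (∃ z : S' ⟶ T, z ≫ t = g) ↔
        ∀ (S'' : Over (Spec (CommRingCat.of k))) (s : S'' ⟶ S') (x : S'' ⟶ Y'),
          ∃ x' : S'' ⟶ Y, (s ≫ g) * (x ≫ y') * (s ≫ g)⁻¹ = x' ≫ y := by
  obtain ⟨T, t, ht, hT⟩ := GrpSchLib.exists_closed_universal (W := Y') (X := G)
    (snd Y' G * (fst Y' G ≫ y') * (snd Y' G)⁻¹) y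
  refine ⟨T, t, ht, fun S' g => (hT g).trans ⟨fun ⟨l, hl⟩ S'' s x => ⟨lift x s ≫ l, ?_⟩, fun h => ?_⟩⟩
  · rw [Category.assoc, hl]
    simp [MonObj.comp_mul, GrpObj.comp_inv, lift_whiskerLeft_assoc]
  · obtain ⟨l, hl⟩ := h (Y' ⊗ S') (snd Y' S') (fst Y' S')
    exact ⟨l, by rw [← hl]; simp [MonObj.comp_mul, GrpObj.comp_inv]⟩

/-- The points conjugating `Y'` into a closed `Y` by the inverse form a closed subscheme. -/
theorem exists_transporter_sub_inv {Y' : Over (Spec (CommRingCat.of k))} (y : Y ⟶ G) [IsClosedImmersion y.left]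
    (y' : Y' ⟶ G) :
    ∃ (T : Over (Spec (CommRingCat.of k))) (t : T ⟶ G), IsClosedImmersion t.left ∧
      ∀ (S' : Over (Spec (CommRingCat.of k))) (g : S' ⟶ G), (∃ z : S' ⟶ T, z ≫ t = g) ↔
        ∀ (S'' : Over (Spec (CommRingCat.of k))) (s : S'' ⟶ S') (x : S'' ⟶ Y'),
          ∃ x' : S'' ⟶ Y, (s ≫ g)⁻¹ * (x ≫ y') * (s ≫ g) = x' ≫ y := by
  obtain ⟨T, t, ht, hT⟩ := GrpSchLib.exists_closed_universal (W := Y') (X := G)
    ((snd Y' G)⁻¹ * (fst Y' G ≫ y') * snd Y' G) y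
  refine ⟨T, t, ht, fun S' g => (hT g).trans ⟨fun ⟨l, hl⟩ S'' s x => ⟨lift x s ≫ l, ?_⟩, fun h => ?_⟩⟩
  · rw [Category.assoc, hl]
    simp [MonObj.comp_mul, GrpObj.comp_inv, lift_whiskerLeft_assoc]
  · obtain ⟨l, hl⟩ := h (Y' ⊗ S') (snd Y' S') (fst Y' S')
    exact ⟨l, by rw [← hl]; simp [MonObj.comp_mul, GrpObj.comp_inv]⟩

/-- Two closed subschemes meet in a closed subscheme. -/
theorem exists_inter {S : Scheme.{u}} {G T₁ T₂ : Over S} (t₁ : T₁ ⟶ G) (t₂ : T₂ ⟶ G) [IsClosedImmersion t₁.left]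
    [IsClosedImmersion t₂.left] :
    ∃ (T : Over S) (t : T ⟶ G), IsClosedImmersion t.left ∧
      ∀ (S' : Over S) (g : S' ⟶ G), (∃ z : S' ⟶ T, z ≫ t = g) ↔
        (∃ z : S' ⟶ T₁, z ≫ t₁ = g) ∧ (∃ z : S' ⟶ T₂, z ≫ t₂ = g) := by
  refine ⟨Over.mk (pullback.fst t₁.left t₂.left ≫ T₁.hom),
    (Over.homMk (pullback.fst t₁.left t₂.left) rfl : Over.mk _ ⟶ T₁) ≫ t₁, ?_, fun S' g => ⟨?_, ?_⟩⟩
  · exact inferInstanceAs (IsClosedImmersion (pullback.fst t₁.left t₂.left ≫ t₁.left))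
  · rintro ⟨z, rfl⟩
    refine ⟨⟨_, Category.assoc _ _ _⟩, ⟨z ≫ Over.homMk (pullback.snd t₁.left t₂.left) ?_, ?_⟩⟩
    · show _ = pullback.fst t₁.left t₂.left ≫ T₁.hom
      rw [← Over.w t₂, ← pullback.condition_assoc, Over.w t₁]
    · rw [Category.assoc]
      congr 1
      exact Over.OverMorphism.ext pullback.condition.symm
  · rintro ⟨⟨a, ha⟩, ⟨b, hb⟩⟩
    refine ⟨Over.homMk (pullback.lift a.left b.left (congrArg CommaMorphism.left (ha.trans hb.symm))) ?_, ?_⟩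
    · show _ ≫ pullback.fst t₁.left t₂.left ≫ T₁.hom = _
      rw [pullback.lift_fst_assoc, Over.w a]
    · apply Over.OverMorphism.ext
      show pullback.lift a.left b.left _ ≫ pullback.fst t₁.left t₂.left ≫ t₁.left = g.left
      rw [pullback.lift_fst_assoc, ← Over.comp_left, ha]

end Groth.Agent.TransLib
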