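import Groth.Agent.GrpSchLib.CoincidenceFP
import Mathlib.AlgebraicGeometry.Morphisms.FlatDescent

/-!
# Universal closed subschemes along essentially free morphisms
-/

universe u

open CategoryTheory CategoryTheory.Limits AlgebraicGeometry TensorProduct

set_option backward.isDefEq.respectTransparency false

namespace Groth.Agent.TransLib

open GrpSchLib

variable {P X E : Scheme.{u}} {π : P ⟶ X} {i : E ⟶ P}

/-- `Good` in terms of the base-changed closed immersion. -/
theorem good_iff_isIso [IsClosedImmersion i] {T : Scheme.{u}} (g : T ⟶ X) :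
    Good π i g ↔ IsIso (pullback.snd i (pullback.snd g π)) := by
  refine ⟨fun ⟨l, hl⟩ => ?_, fun h => ⟨inv (pullback.snd i (pullback.snd g π)) ≫ pullback.fst _ _, ?_⟩⟩
  · haveI : IsSplitEpi (pullback.snd i (pullback.snd g π)) :=
      IsSplitEpi.mk' ⟨pullback.lift l (𝟙 _) (by rw [hl, Category.id_comp]), pullback.lift_snd _ _ _⟩
    exact isIso_of_mono_of_isSplitEpi _
  · rw [Category.assoc, pullback.condition, IsIso.inv_hom_id_assoc]

/-- `Good` descends along quasi-compact flat surjections. -/
theorem good_of_cover [IsClosedImmersion i] {T T' : Scheme.{u}} (d : T' ⟶ T) [Surjective d] [Flat d]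
    [QuasiCompact d] (g : T ⟶ X) (h : Good π i (d ≫ g)) : Good π i g := by
  rw [good_iff_isIso] at h ⊢
  let p : pullback (d ≫ g) π ⟶ pullback g π :=
    pullback.map (d ≫ g) π g π d (𝟙 P) (𝟙 X) (by simp) (by simp)
  have hp : IsPullback p (pullback.fst (d ≫ g) π) (pullback.fst g π) d := by
    refine IsPullback.of_right (h₁₂ := pullback.snd g π) (h₂₂ := g) (v₁₃ := π) ?_ (by simp [p, pullback.map])
      (IsPullback.of_hasPullback g π).flip
    simpa [p, pullback.map] using (IsPullback.of_hasPullback (d ≫ g) π).flip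
  have hQ : (@Surjective ⊓ @Flat ⊓ @QuasiCompact : MorphismProperty Scheme.{u}) p :=
    MorphismProperty.of_isPullback hp.flip ⟨⟨‹_›, ‹_›⟩, ‹_›⟩
  refine MorphismProperty.of_pullback_fst_of_descendsAlong (P := MorphismProperty.isomorphisms Scheme.{u})
    (Q := @Surjective ⊓ @Flat ⊓ @QuasiCompact) (f := p) (g := pullback.snd i (pullback.snd g π)) hQ ?_
  have hc : IsPullback (pullback.snd i (pullback.snd (d ≫ g) π))
      (pullback.map i (pullback.snd (d ≫ g) π) i (pullback.snd g π) (𝟙 E) p (𝟙 P) (by simp) (by simp [p, pullback.map]))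
      p (pullback.snd i (pullback.snd g π)) := by
    refine IsPullback.of_bot ?_ (by simp [pullback.map]) (IsPullback.of_hasPullback i (pullback.snd g π)).flip |>.flip |>.flip
    simpa [pullback.map, p] using (IsPullback.of_hasPullback i (pullback.snd (d ≫ g) π)).flip
  show IsIso _
  rw [← hc.isoPullback_inv_fst]
  infer_instance

/-- A descended ideal. -/
theorem le_map_comap_of_descent {A A' : Type u} [CommRing A] [CommRing A'] [Algebra A A'] [Module.FaithfullyFlat A A']
    (I' : Ideal A')
    (h : I'.map (Algebra.TensorProduct.includeLeft : A' →ₐ[A] A' ⊗[A] A') =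
      I'.map (Algebra.TensorProduct.includeRight : A' →ₐ[A] A' ⊗[A] A')) :
    I' ≤ (I'.comap (algebraMap A A')).map (algebraMap A A') := by
  intro y hy
  let I : Ideal A := I'.comap (algebraMap A A')
  let g₂ : A' →ₐ[A] A' ⊗[A] (A' ⧸ I') := Algebra.TensorProduct.includeRight.comp (Ideal.Quotient.mkₐ A I')
  let m : A' ⊗[A] A' →ₐ[A] A' ⊗[A] (A' ⧸ I') :=
    Algebra.TensorProduct.map (AlgHom.id A A') (Ideal.Quotient.mkₐ A I')
  have h0 : y ⊗ₜ[A] (1 : A' ⧸ I') = 0 := by
    have hmem : (y ⊗ₜ[A] (1 : A') : A' ⊗[A] A') ∈ I'.map (Algebra.TensorProduct.includeRight : A' →ₐ[A] A' ⊗[A] A') :=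
      h ▸ Ideal.mem_map_of_mem (Algebra.TensorProduct.includeLeft : A' →ₐ[A] A' ⊗[A] A') hy
    have hle : I'.map (Algebra.TensorProduct.includeRight : A' →ₐ[A] A' ⊗[A] A') ≤ RingHom.ker m.toRingHom := by
      rw [Ideal.map_le_iff_le_comap]
      intro z hz
      show m ((1 : A') ⊗ₜ[A] z) = 0
      simp [m, Ideal.Quotient.eq_zero_iff_mem.mpr hz]
    have := hle hmem
    simpa [m, RingHom.mem_ker] using this
  let f : (A ⧸ I) →ₗ[A] (A' ⧸ I') :=
    Submodule.mapQ I (I'.restrictScalars A) (Algebra.linearMap A A') fun z hz => hz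
  have hf : Function.Injective f := by
    rw [← LinearMap.ker_eq_bot, eq_bot_iff]
    intro z hz
    obtain ⟨z, rfl⟩ := Submodule.Quotient.mk_surjective _ z
    replace hz : Submodule.Quotient.mk (p := I'.restrictScalars A) (algebraMap A A' z) = 0 := hz
    rw [Submodule.Quotient.mk_eq_zero] at hz
    exact (Submodule.mem_bot _).mpr ((Submodule.Quotient.mk_eq_zero _).mpr hz)
  have h1 : y ⊗ₜ[A] (1 : A ⧸ I) = 0 := by
    apply Module.Flat.lTensor_preserves_injective_linearMap (M := A') f hf
    rw [map_zero, LinearMap.lTensor_tmul, ← h0]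
    congr 1
    show Submodule.Quotient.mk (algebraMap A A' 1) = _
    rw [map_one]
    rfl
  have h2 : (1 : A ⧸ I) ⊗ₜ[A] y = 0 := by
    simpa using congrArg (TensorProduct.comm A A' (A ⧸ I)) h1
  rwa [one_tmul_eq_zero_iff, Ideal.smul_top_eq_map, Submodule.restrictScalars_mem] at h2

/-- A universal ideal descends along a faithfully flat algebra. -/
theorem hasIdeal_of_faithfullyFlat [IsClosedImmersion i] {A A' : Type u} [CommRing A] [CommRing A'] [Algebra A A']
    [Module.FaithfullyFlat A A'] (a : Spec (CommRingCat.of A) ⟶ X) (I' : Ideal A')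
    (h : HasIdeal π i (Spec.map (CommRingCat.ofHom (algebraMap A A')) ≫ a) I') :
    ∃ I : Ideal A, HasIdeal π i a I ∧ (I'.FG → I.FG) := by
  let l : A' →+* A' ⊗[A] A' := (Algebra.TensorProduct.includeLeft : A' →ₐ[A] A' ⊗[A] A').toRingHom
  let r : A' →+* A' ⊗[A] A' := (Algebra.TensorProduct.includeRight : A' →ₐ[A] A' ⊗[A] A').toRingHom
  have hlr : I'.map l = I'.map r := by
    have hl := h.map l
    have hr := h.map r
    have e : l.comp (algebraMap A A') = r.comp (algebraMap A A') := RingHom.ext fun a =>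
      ((Algebra.TensorProduct.includeLeft : A' →ₐ[A] A' ⊗[A] A').commutes a).trans
        ((Algebra.TensorProduct.includeRight : A' →ₐ[A] A' ⊗[A] A').commutes a).symm
    rw [← Category.assoc, ← Spec.map_comp, ← CommRingCat.ofHom_comp, e] at hl
    rw [← Category.assoc, ← Spec.map_comp, ← CommRingCat.ofHom_comp] at hr
    exact hl.unique hr
  let I : Ideal A := I'.comap (algebraMap A A')
  have hI : I.map (algebraMap A A') = I' :=
    le_antisymm Ideal.map_comap_le (le_map_comap_of_descent I' hlr)
  refine ⟨I, fun C _ φ => ?_, fun hfg => ?_⟩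
  · letI : Algebra A C := φ.toAlgebra
    let θ : A' →+* C ⊗[A] A' := (Algebra.TensorProduct.includeRight : A' →ₐ[A] C ⊗[A] A').toRingHom
    let d : Spec (CommRingCat.of (C ⊗[A] A')) ⟶ Spec (CommRingCat.of C) :=
      Spec.map (CommRingCat.ofHom (algebraMap C (C ⊗[A] A')))
    have hff : (algebraMap C (C ⊗[A] A')).FaithfullyFlat := RingHom.faithfullyFlat_algebraMap_iff.mpr inferInstance
    haveI : Flat d := (HasRingHomProperty.Spec_iff (P := @Flat)).mpr hff.flat
    haveI : Surjective d := ⟨(RingHom.FaithfullyFlat.iff_flat_and_comap_surjective.mp hff).2⟩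
    have hsq : θ.comp (algebraMap A A') = (algebraMap C (C ⊗[A] A')).comp φ := RingHom.ext fun a =>
      ((Algebra.TensorProduct.includeRight : A' →ₐ[A] C ⊗[A] A').commutes a).trans
        ((Algebra.TensorProduct.includeLeft : C →ₐ[A] C ⊗[A] A').commutes a).symm
    have key : Good π i (d ≫ Spec.map (CommRingCat.ofHom φ) ≫ a) ↔ I' ≤ RingHom.ker θ := by
      rw [← h (C ⊗[A] A') θ, ← Category.assoc, ← Category.assoc, ← Spec.map_comp, ← Spec.map_comp,
        ← CommRingCat.ofHom_comp, ← CommRingCat.ofHom_comp, hsq]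
    refine ⟨fun hg x hx => ?_, fun hle => good_of_cover d _ (key.mpr ?_)⟩
    · have hx' : θ (algebraMap A A' x) = 0 := key.mp (hg.comp π i d) (Ideal.mem_comap.mp hx)
      rw [← RingHom.comp_apply, hsq, RingHom.comp_apply] at hx'
      haveI : Module.FaithfullyFlat C (C ⊗[A] A') := inferInstance
      exact RingHom.mem_ker.mpr (FaithfulSMul.algebraMap_injective C (C ⊗[A] A') (hx'.trans (map_zero _).symm))
    · rw [← hI, Ideal.map_le_iff_le_comap]
      intro x hx
      show θ (algebraMap A A' x) = 0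
      rw [← RingHom.comp_apply, hsq, RingHom.comp_apply, RingHom.mem_ker.mp (hle hx), map_zero]
  · classical
    rw [← hI, Ideal.map] at hfg
    obtain ⟨t, ht, hst⟩ := (Submodule.fg_span_iff_fg_span_finset_subset _).mp hfg
    obtain ⟨t₀, ht₀, rfl⟩ := Finset.subset_set_image_iff.mp ht
    refine ⟨t₀, ?_⟩
    rw [← Ideal.comap_map_eq_self_of_faithfullyFlat (B := A') (Ideal.span (t₀ : Set A)),
      ← Ideal.comap_map_eq_self_of_faithfullyFlat (B := A') I]
    congr 1
    refine (Ideal.map_span (algebraMap A A') (t₀ : Set A)).trans ?_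
    rw [← Finset.coe_image]
    exact hst.symm

/-- A universal ideal from projective charts, finitely generated for finitely many of them. -/
theorem hasIdeal_of_charts_fg [IsClosedImmersion i] {A : Type u} [CommRing A]
    (a : Spec (CommRingCat.of A) ⟶ X) {κ : Type u} (B : κ → Type u) [∀ j, CommRing (B j)]
    [∀ j, Algebra A (B j)] [∀ j, Module.Projective A (B j)]
    (v : ∀ j, Spec (CommRingCat.of (B j)) ⟶ pullback a π) [∀ j, IsOpenImmersion (v j)]
    (hv : ∀ j, v j ≫ pullback.fst a π = Spec.map (CommRingCat.ofHom (algebraMap A (B j))))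
    (hcov : ∀ x, ∃ j y, v j y = x) :
    ∃ I : Ideal A, HasIdeal π i a I ∧ (Finite κ → LocallyOfFinitePresentation i → I.FG) := by
  choose J hJ using fun j => factors_closed_iff i (v j ≫ pullback.snd a π)
  choose K hK using fun j => exists_contentIdeal_of_projective (A := A) (M := B j) (J j : Set (B j))
  refine ⟨⨆ j, K j, fun C _ φ => ?_, fun hfin hi => ?_⟩
  · let : Algebra A C := φ.toAlgebra
    rw [iSup_le_iff]
    refine Iff.trans ?_ (forall_congr' fun j => hK j C)
    exact good_iff_charts a B v hv hcov J hJ C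
  · refine Submodule.fg_iSup _ fun j => ?_
    obtain ⟨s, hs⟩ := fg_of_factors i (v j ≫ pullback.snd a π) (J j) (hJ j)
    refine contentIdeal_fg s.finite_toSet fun C _ _ => ?_
    rw [← hK j C]
    refine ⟨fun h x hx => ?_, fun h x hx => h x (hs ▸ Submodule.subset_span hx)⟩
    have hle : J j ≤ RingHom.ker (Algebra.TensorProduct.includeRight (R := A) (A := C) (B := B j)).toRingHom := by
      rw [← hs, Submodule.span_le]
      exact h
    exact hle hx

end Groth.Agent.TransLib
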