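import Groth.Agent.TransLib.Field
import Groth.Agent.GrpSchLib.MonoSubgroup
import Mathlib.Tactic.Group

/-!
# Centralizers in a group scheme over a field
-/

universe u

open CategoryTheory CategoryTheory.Limits MonoidalCategory CartesianMonoidalCategory AlgebraicGeometry
open scoped MonObj

namespace Groth.Agent.TransLib

variable {k : Type u} [Field k] {G X : Over (Spec (CommRingCat.of k))} [GrpObj G]

/-- The centralizer of a morphism is a closed subgroup. -/
theorem exists_centralizer (u : X ⟶ G) :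
    ∃ (C : Over (Spec (CommRingCat.of k))) (_ : GrpObj C) (c : C ⟶ G), IsMonHom c ∧ IsClosedImmersion c.left ∧
      ∀ (S' : Over (Spec (CommRingCat.of k))) (g : S' ⟶ G), (∃ z : S' ⟶ C, z ≫ c = g) ↔
        ∀ (S'' : Over (Spec (CommRingCat.of k))) (s : S'' ⟶ S') (x : S'' ⟶ X), Commute (s ≫ g) (x ≫ u) := by
  obtain ⟨C, c, hc, hC⟩ := exists_transporter_hom u u
  haveI : Mono c := (Over.forget _).mono_of_mono_map (inferInstanceAs (Mono c.left))
  have key : ∀ (S' : Over (Spec (CommRingCat.of k))) (g : S' ⟶ G), (∃ z : S' ⟶ C, z ≫ c = g) ↔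
      ∀ (S'' : Over (Spec (CommRingCat.of k))) (s : S'' ⟶ S') (x : S'' ⟶ X), Commute (s ≫ g) (x ≫ u) :=
    fun S' g => (hC S' g).trans
      (forall_congr' fun S'' => forall_congr' fun s => forall_congr' fun x => mul_inv_eq_iff_eq_mul)
  obtain ⟨η', hη⟩ := (key _ η[G]).mpr fun S'' s x => by
    rw [show s ≫ η[G] = (1 : S'' ⟶ G) by rw [Hom.one_def, toUnit_unique s (toUnit _)]]
    exact Commute.one_left _
  obtain ⟨μ', hμ⟩ := (key _ ((fst C C ≫ c) * (snd C C ≫ c))).mpr fun S'' s x => by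
    rw [MonObj.comp_mul, ← Category.assoc, ← Category.assoc]
    have h1 := (key _ ((s ≫ fst C C) ≫ c)).mp ⟨_, rfl⟩ S'' (𝟙 _) x
    have h2 := (key _ ((s ≫ snd C C) ≫ c)).mp ⟨_, rfl⟩ S'' (𝟙 _) x
    simp only [Category.id_comp] at h1 h2
    exact h1.mul_left h2
  obtain ⟨ι', hι⟩ := (key _ c⁻¹).mpr fun S'' s x => by
    have h := (key _ (s ≫ c)).mp ⟨s, rfl⟩ S'' (𝟙 _) x
    simp only [Category.id_comp] at h
    rw [GrpObj.comp_inv]
    exact h.inv_left
  obtain ⟨str, hmon⟩ := GrpSchLib.exists_grpObj_of_mono c η' hη μ' hμ ι' hι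
  exact ⟨C, str, c, hmon, hc, key⟩

end Groth.Agent.TransLib
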